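import Groth.Agent.Lib.Deform4Main
import Groth.Agent.Lib.FlatH4.SmoothFibres
import Mathlib.CategoryTheory.Monoidal.Cartesian.Over

/-! # Units of monoid schemes along thickenings -/

set_option autoImplicit false
set_option linter.style.haveILetI false
set_option backward.isDefEq.respectTransparency.types false
universe u

open CategoryTheory Limits MonoidalCategory CartesianMonoidalCategory MonObj AlgebraicGeometry

namespace Groth.Agent.MonUnit19

/-- A point of the target of a surjective closed immersion factors through the source. -/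
theorem exists_fromSpecResidueField_fac {T₀ T : Scheme.{u}} (j : T₀ ⟶ T) [IsClosedImmersion j] [Surjective j]
    (s : T) : ∃ r : Spec (T.residueField s) ⟶ T₀, r ≫ j = T.fromSpecResidueField s := by
  obtain ⟨s₀, rfl⟩ := j.surjective s
  have hs : Function.Surjective (j.residueFieldMap s₀).hom := by
    intro z
    obtain ⟨z, rfl⟩ := IsLocalRing.residue_surjective z
    obtain ⟨w, rfl⟩ := j.stalkMap_surjective s₀ z
    exact ⟨IsLocalRing.residue _ w, IsLocalRing.ResidueField.map_residue _ w⟩
  haveI : IsIso (j.residueFieldMap s₀) :=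
    (ConcreteCategory.isIso_iff_bijective _).2 ⟨RingHom.injective _, hs⟩
  exact ⟨Spec.map (inv (j.residueFieldMap s₀)) ≫ T₀.fromSpecResidueField s₀, by
    rw [Category.assoc, ← j.SpecMap_residueFieldMap_fromSpecResidueField s₀, ← Spec.map_comp_assoc,
      IsIso.hom_inv_id, Spec.map_id, Category.id_comp]⟩

variable {k : Type u} [Field k] {M T₀ T : Over (Spec (CommRingCat.of k))}

/-- An endomorphism over the base of a flat family is invertible when it is so on a thickening. -/
theorem isIso_of_thickening [LocallyOfFiniteType M.hom] (j : T₀ ⟶ T) [IsClosedImmersion j.left]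
    [Surjective j.left] (L : T ⊗ M ⟶ T ⊗ M) (L₀ : T₀ ⊗ M ⟶ T₀ ⊗ M) [IsIso L₀]
    (hL : L ≫ fst _ _ = fst _ _) (hL₀ : L₀ ≫ fst _ _ = fst _ _) (hc : (j ▷ M) ≫ L = L₀ ≫ (j ▷ M)) :
    IsIso L := by
  let g : (T ⊗ M).left ⟶ T.left := (fst T M).left
  haveI : Flat g := MorphismProperty.pullback_fst (P := @Flat) T.hom M.hom inferInstance
  haveI : LocallyOfFinitePresentation g :=
    MorphismProperty.pullback_fst (P := @LocallyOfFinitePresentation) T.hom M.hom inferInstance
  have hg : L.left ≫ g = g := by rw [← Over.comp_left, hL]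
  have sq : IsPullback (j ▷ M).left (fst T₀ M).left g j.left := by
    refine IsPullback.of_right (h₁₂ := (snd T M).left) (v₁₃ := M.hom) (h₂₂ := T.hom) ?_ ?_
      (IsPullback.of_hasPullback T.hom M.hom).flip
    · rw [← Over.comp_left, whiskerRight_snd, Over.w j]
      exact (IsPullback.of_hasPullback T₀.hom M.hom).flip
    · rw [← Over.comp_left, ← Over.comp_left, whiskerRight_fst]
  haveI : IsClosedImmersion (j ▷ M).left := MorphismProperty.of_isPullback sq.flip ‹IsClosedImmersion j.left›
  haveI : Surjective (j ▷ M).left := MorphismProperty.of_isPullback sq.flip ‹Surjective j.left›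
  have hc' : IsPullback (j ▷ M).left L₀.left L.left (j ▷ M).left := by
    refine IsPullback.of_bot ?_ ?_ sq
    · rw [hg, ← Over.comp_left, hL₀]; exact sq
    · rw [← Over.comp_left, ← Over.comp_left, hc]
  haveI : LocallyOfFinitePresentation (L.left ≫ g) := by rw [hg]; infer_instance
  haveI : Flat (L.left ≫ g) := by rw [hg]; infer_instance
  haveI : LocallyOfFiniteType g := inferInstance
  haveI : IsIso L₀.left := inferInstanceAs (IsIso ((Over.forget _).map L₀))
  have hflat : Flat L.left := by
    refine FlatH4.flat_of_fibres L.left g fun s => ?_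
    obtain ⟨r, hr⟩ := exists_fromSpecResidueField_fac j.left s
    let w : g.fiber s ⟶ (T₀ ⊗ M).left :=
      sq.lift (g.fiberι s) (g.fiberToSpecResidueField s ≫ r) (by
        rw [Category.assoc, hr]; exact pullback.condition)
    have hw : w ≫ (j ▷ M).left = g.fiberι s := sq.lift_fst _ _ _
    haveI : Flat (pullback.snd L₀.left w) := inferInstance
    have e := (IsPullback.of_hasPullback L₀.left w).paste_horiz hc'
    rw [hw] at e
    rw [← e.isoPullback_inv_snd, MorphismProperty.cancel_left_of_respectsIso @Flat]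
    infer_instance
  have hfp : LocallyOfFinitePresentation L.left := Deform4.lfp_of_lfp_lft (g' := g)
  haveI : IsIso L.left := Deform4.isIso_of hc' hflat hfp inferInstance
  haveI : IsIso ((Over.forget _).map L) := ‹IsIso L.left›
  exact isIso_of_reflects_iso L (Over.forget _)

/-- A point of a monoid scheme which is invertible on a thickening is invertible. -/
theorem isUnit_of_thickening [MonObj M] [LocallyOfFiniteType M.hom] (j : T₀ ⟶ T) [IsClosedImmersion j.left]
    [Surjective j.left] (b : T ⟶ M) (h : IsUnit (j ≫ b)) : IsUnit b := by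
  obtain ⟨c, hc⟩ := h
  let P := fst T₀ M
  let L₀ : T₀ ⊗ M ≅ T₀ ⊗ M :=
    { hom := lift P ((P ≫ (j ≫ b)) * snd _ _)
      inv := lift P ((P ≫ (↑c⁻¹ : T₀ ⟶ M)) * snd _ _)
      hom_inv_id := by
        apply CartesianMonoidalCategory.hom_ext
        · simp [P]
        · simp only [P, comp_lift, MonObj.comp_mul, lift_snd, lift_fst_assoc, Category.id_comp]
          rw [← _root_.mul_assoc, ← MonObj.comp_mul, ← hc, Units.inv_mul, MonObj.comp_one, _root_.one_mul]
      inv_hom_id := by
        apply CartesianMonoidalCategory.hom_ext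
        · simp [P]
        · simp only [P, comp_lift, MonObj.comp_mul, lift_snd, lift_fst_assoc, Category.id_comp]
          rw [← _root_.mul_assoc, ← MonObj.comp_mul, ← hc, Units.mul_inv, MonObj.comp_one, _root_.one_mul] }
  let R₀ : T₀ ⊗ M ≅ T₀ ⊗ M :=
    { hom := lift P (snd _ _ * (P ≫ (j ≫ b)))
      inv := lift P (snd _ _ * (P ≫ (↑c⁻¹ : T₀ ⟶ M)))
      hom_inv_id := by
        apply CartesianMonoidalCategory.hom_ext
        · simp [P]
        · simp only [P, comp_lift, MonObj.comp_mul, lift_snd, lift_fst_assoc, Category.id_comp]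
          rw [_root_.mul_assoc, ← MonObj.comp_mul, ← hc, Units.mul_inv, MonObj.comp_one, _root_.mul_one]
      inv_hom_id := by
        apply CartesianMonoidalCategory.hom_ext
        · simp [P]
        · simp only [P, comp_lift, MonObj.comp_mul, lift_snd, lift_fst_assoc, Category.id_comp]
          rw [_root_.mul_assoc, ← MonObj.comp_mul, ← hc, Units.inv_mul, MonObj.comp_one, _root_.mul_one] }
  let L : T ⊗ M ⟶ T ⊗ M := lift (fst _ _) ((fst _ _ ≫ b) * snd _ _)
  let R : T ⊗ M ⟶ T ⊗ M := lift (fst _ _) (snd _ _ * (fst _ _ ≫ b))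
  haveI : IsIso L₀.hom := Iso.isIso_hom L₀
  haveI : IsIso R₀.hom := Iso.isIso_hom R₀
  haveI : IsIso L := isIso_of_thickening j L L₀.hom (lift_fst _ _) (lift_fst _ _) (by
    apply CartesianMonoidalCategory.hom_ext <;> simp [L, L₀, P, MonObj.comp_mul])
  haveI : IsIso R := isIso_of_thickening j R R₀.hom (lift_fst _ _) (lift_fst _ _) (by
    apply CartesianMonoidalCategory.hom_ext <;> simp [R, R₀, P, MonObj.comp_mul])
  have hfst : ∀ F : T ⊗ M ⟶ T ⊗ M, ∀ [IsIso F], F ≫ fst _ _ = fst _ _ →
      lift (𝟙 T) (1 : T ⟶ M) ≫ inv F ≫ fst _ _ = 𝟙 T := by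
    intro F _ hF
    have e : inv F ≫ fst _ _ = fst T M := by rw [IsIso.inv_comp_eq, hF]
    rw [e, lift_fst]
  refine isUnit_iff_exists_and_exists.2
    ⟨⟨lift (𝟙 T) (1 : T ⟶ M) ≫ inv L ≫ snd _ _, ?_⟩, ⟨lift (𝟙 T) (1 : T ⟶ M) ≫ inv R ≫ snd _ _, ?_⟩⟩
  · have e : lift (𝟙 T) (1 : T ⟶ M) ≫ inv L ≫ (L ≫ snd _ _) = lift (𝟙 T) (1 : T ⟶ M) ≫ snd _ _ := by
      rw [IsIso.inv_hom_id_assoc]
    rw [show L ≫ snd _ _ = _ from lift_snd _ _, MonObj.comp_mul, MonObj.comp_mul, lift_snd,
      ← Category.assoc (inv L) (fst _ _), ← Category.assoc (lift _ _) (inv L ≫ fst _ _),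
      hfst L (lift_fst _ _), Category.id_comp] at e
    exact e
  · have e : lift (𝟙 T) (1 : T ⟶ M) ≫ inv R ≫ (R ≫ snd _ _) = lift (𝟙 T) (1 : T ⟶ M) ≫ snd _ _ := by
      rw [IsIso.inv_hom_id_assoc]
    rw [show R ≫ snd _ _ = _ from lift_snd _ _, MonObj.comp_mul, MonObj.comp_mul, lift_snd,
      ← Category.assoc (inv R) (fst _ _), ← Category.assoc (lift _ _) (inv R ≫ fst _ _),
      hfst R (lift_fst _ _), Category.id_comp] at e
    exact e

end Groth.Agent.MonUnit19
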